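import Mathlib
import Groth.Agent.Lib.Helper5.MaxSupp.Geom

/-!
# Maximal points of the support of `f^*E ⊗ F` (helper5): the main statement
-/

set_option autoImplicit false
set_option linter.unusedSectionVars false
set_option linter.unusedVariables false
set_option backward.isDefEq.respectTransparency.types false
universe u
open CategoryTheory CategoryTheory.Limits AlgebraicGeometry TopologicalSpace

namespace Groth.Agent.Lib.Helper5.MaxSupp

theorem main {X Y : Scheme.{u}} (f : X ⟶ Y) (F : X.Modules) (hF : Coh.IsCoh F)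
    (hfl : FlatMod.IsFlatOver f F) (E : Y.Modules) (hE : Coh.IsCoh E) (x : X) :
    (x ∈ CohB1.support (CohB1.tensorMod ((Scheme.Modules.pullback f).obj E) F) ∧
        ∀ z ∈ CohB1.support (CohB1.tensorMod ((Scheme.Modules.pullback f).obj E) F), z ⤳ x → z = x) ↔
      ((f x ∈ CohB1.support E ∧ ∀ w ∈ CohB1.support E, w ⤳ f x → w = f x) ∧
        (f.asFiber x ∈ CohB1.support ((Scheme.Modules.pullback (f.fiberι (f x))).obj F) ∧
          ∀ z ∈ CohB1.support ((Scheme.Modules.pullback (f.fiberι (f x))).obj F),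
            z ⤳ f.asFiber x → z = f.asFiber x)) := by
  haveI : F.IsQuasicoherent := hF.1
  haveI : E.IsQuasicoherent := hE.1
  haveI : ((Scheme.Modules.pullback f).obj E).IsQuasicoherent :=
    Groth.Agent.Lead.PB.isQuasicoherent_pullback f E
  have hS : CohB1.support (CohB1.tensorMod ((Scheme.Modules.pullback f).obj E) F) =
      f ⁻¹' CohB1.support E ∩ CohB1.support F := by
    rw [Groth.Agent.Lead.TilT.support_tensorMod _ _
      (Groth.Agent.Lead.PB.isFT_pullback f E hE.2) hF.2, support_pullback f E hE]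
  have hSf : CohB1.support ((Scheme.Modules.pullback (f.fiberι (f x))).obj F) =
      (f.fiberι (f x)) ⁻¹' CohB1.support F := support_pullback _ F hF
  rw [hS, hSf]
  have hι := f.fiberι_asFiber x
  have hemb := (f.fiberι (f x)).isEmbedding
  have hrange := f.range_fiberι (f x)
  constructor
  · rintro ⟨⟨hxE, hxF⟩, hmax⟩
    refine ⟨⟨hxE, ?_⟩, ?_, ?_⟩
    · intro w hw hwx
      obtain ⟨x', hx'x, hfx', hx'F⟩ := exists_generization_support f F hF x (hfl x) hxF w hwx
      have := hmax x' ⟨by rw [Set.mem_preimage, hfx']; exact hw, hx'F⟩ hx'x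
      rw [← hfx', this]
    · rw [Set.mem_preimage, hι]; exact hxF
    · intro z hz hzx
      have h1 : f.fiberι (f x) z ⤳ x := by
        have := hzx.map (f.fiberι (f x)).continuous
        rwa [hι] at this
      have h2 : f (f.fiberι (f x) z) = f x := by
        have : f.fiberι (f x) z ∈ Set.range (f.fiberι (f x)) := ⟨z, rfl⟩
        rw [hrange] at this
        exact this
      have h3 := hmax _ ⟨by rw [Set.mem_preimage, h2]; exact hxE, hz⟩ h1
      exact hemb.injective (h3.trans hι.symm)
  · rintro ⟨⟨hxE, hmaxE⟩, hxF, hmaxF⟩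
    rw [Set.mem_preimage, hι] at hxF
    refine ⟨⟨hxE, hxF⟩, ?_⟩
    rintro z ⟨hzE, hzF⟩ hzx
    have h1 : f z = f x := hmaxE (f z) hzE (hzx.map f.continuous)
    obtain ⟨z', rfl⟩ : z ∈ Set.range (f.fiberι (f x)) := by rw [hrange]; exact h1
    have h2 : z' ⤳ f.asFiber x := by
      rw [← hemb.isInducing.specializes_iff, hι]; exact hzx
    rw [hmaxF z' hzF h2, hι]

end Groth.Agent.Lib.Helper5.MaxSupp
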